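import Mathlib
import Cfsg.Agent.Grp.ExtraspecialIso
import Cfsg.Agent.Loc3.Tools2
import Cfsg.Agent.B8L.XD

/-! Decomposition of the extraspecial group of order `2⁷` under a group `3³`. -/

set_option autoImplicit false

namespace Cfsg.Agent.B8L

open Subgroup
open Cfsg.Agent.F22L (F3 W2 o2 SL qi qj Wr map_f3)

open Cfsg.Agent.Grp.ES

open Cfsg.Agent.Loc3 Cfsg.Agent.PLocal.Amb
open scoped commutatorElement

theorem mka_e3 {Y : Type*} [Group Y] {c : Y} (c3 : c ^ 3 = 1) (r : Y) :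
    c * (c * (c * r * c⁻¹) * c⁻¹) * c⁻¹ = r := by
  rw [show c * (c * (c * r * c⁻¹) * c⁻¹) * c⁻¹ = c ^ 3 * r * (c ^ 3)⁻¹ by
    simp only [pow_three, mul_inv_rev, mul_assoc], c3]; simp

section
variable {Y : Type*} [Group Y] {t : Y} {S : Subgroup Y} (h : IsES 2 t S)
include h

theorem mka_cent {x u : Y} (x3 : x ^ 3 = 1) (c : Commute x t)
    (e : u⁻¹ * (x * u * x⁻¹) ∈ zpowers t) : Commute x u := by
  rcases h.eq_one_or_eq e with e | e
  · exact comm_of_conj (inv_mul_eq_one.1 e).symm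
  · have e1 : x * u * x⁻¹ = u * t := by rw [← e]; group
    have : Commute (x * x) u := comm_of_conj (by
      rw [show x * x * u * (x * x)⁻¹ = x * (x * u * x⁻¹) * x⁻¹ by group, e1, ← conj_mul, e1,
        conj_of_comm c, mul_assoc, h.z_mul_z, mul_one])
    have := this.mul_left this
    rwa [show x * x * (x * x) = x ^ 3 * x by simp [pow_succ, mul_assoc], x3, one_mul] at this

theorem mka_cj {y a b : Y} (c : Commute y t) (ha : a ∈ S) (hb : b ∈ S) :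
    ⁅y * a * y⁻¹, y * b * y⁻¹⁆ = ⁅a, b⁆ := by
  rw [← conjugate_commutatorElement]
  rcases h.eq_one_or_eq (h.comm a ha b hb) with e | e <;> rw [e]
  exacts [by simp, conj_of_comm c]

theorem mka_inf {x : Y} (x3 : x ^ 3 = 1) (c : Commute x t) (hx : x ∈ 𝐍[S]) :
    IsES 2 t (S ⊓ centralizer {x}) := by
  refine ⟨h.ord, ⟨h.mem, mem_cent.2 c.symm⟩, fun s hs => h.central s hs.1,
    fun a ha b hb => h.comm a ha.1 b hb.1, fun a ha hc => h.center a ha.1 fun r hr => ?_⟩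
  have m1 := conj_mem_of_mem_normalizer hx hr
  have m2 := conj_mem_of_mem_normalizer hx m1
  have m := mul_mem (mul_mem hr m1) m2
  have e1 := commutatorElement_eq_one_iff_commute.2 (hc _ ⟨m, mem_cent.2 (mka_cent h x3 c (by
    rw [show x * (r * (x * r * x⁻¹) * (x * (x * r * x⁻¹) * x⁻¹)) * x⁻¹ = x * r * x⁻¹ *
      (x * (x * r * x⁻¹) * x⁻¹) * (x * (x * (x * r * x⁻¹) * x⁻¹) * x⁻¹) by
        simp only [mul_assoc, inv_mul_cancel_left], mka_e3 x3]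
    convert h.comm _ (inv_mem m) _ (inv_mem hr) using 1
    rw [commutatorElement_def]; group)).symm⟩)
  have k : ∀ r ∈ S, ⁅a, x * r * x⁻¹⁆ = ⁅a, r⁆ := fun r hr => by
    rw [← mka_cj h c ha.1 hr, conj_of_comm (mem_cent.1 ha.2).symm]
  rw [h.mul_right ha.1 (mul_mem hr m1) m2, h.mul_right ha.1 hr m1, k _ m1, k _ hr] at e1
  rcases h.eq_one_or_eq (h.comm a ha.1 r hr) with e | e
  · exact commutatorElement_eq_one_iff_commute.1 e
  · rw [e, h.z_mul_z, one_mul] at e1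
    exact absurd e1 (by have := Fact.mk Nat.prime_two; exact h.z_ne_one)

theorem mka_quat {c : Y} (c3 : c ^ 3 = 1) (ct : Commute c t) (hc : c ∈ 𝐍[S])
    (n : ¬ S ≤ centralizer {c}) :
    ∃ a ∈ S, a * a = t ∧ c * (c * a * c⁻¹) * c⁻¹ = a * (c * a * c⁻¹) := by
  have e3 := mka_e3 c3
  have m : ∀ k ∈ S, k⁻¹ * (c * k * c⁻¹) ∈ S := fun k hk =>
    mul_mem (inv_mem hk) (conj_mem_of_mem_normalizer hc hk)
  by_cases s : ∃ k ∈ S, (k⁻¹ * (c * k * c⁻¹)) ^ 2 = t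
  · obtain ⟨k, hk, e⟩ := s
    have e1 : c * (c * (k⁻¹ * (c * k * c⁻¹))⁻¹ * c⁻¹) * c⁻¹ =
        k⁻¹ * (c * k * c⁻¹) * (c * (k⁻¹ * (c * k * c⁻¹)) * c⁻¹) := by
      rw [show c * (c * (k⁻¹ * (c * k * c⁻¹))⁻¹ * c⁻¹) * c⁻¹ =
        (c * (c * (c * k * c⁻¹) * c⁻¹) * c⁻¹)⁻¹ * (c * (c * k * c⁻¹) * c⁻¹) by
          simp only [mul_assoc, inv_mul_cancel_left, mul_inv_rev, inv_inv], e3]; group
    have a := m k hk
    generalize k⁻¹ * (c * k * c⁻¹) = u at *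
    have i : u⁻¹ = u * t := by
      rw [inv_eq_iff_mul_eq_one, ← mul_assoc, ← pow_two, e, h.z_mul_z]
    refine ⟨u⁻¹, inv_mem a, by rw [← mul_inv_rev, ← pow_two, e, h.z_inv], ?_⟩
    rw [e1, i, ← conj_mul, conj_of_comm ct, mul_assoc u t, ← mul_assoc t,
      ← (h.central _ (conj_mem_of_mem_normalizer hc a)).eq, mul_assoc _ t, h.z_mul_z, mul_one]
  push Not at s
  replace s := fun k hk => (h.sq_eq (m k hk)).resolve_right (s k hk)
  refine (n fun k hk => mem_cent.2 ?_).elim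
  have ma : c * k * c⁻¹ * k⁻¹ ∈ S := mul_mem (conj_mem_of_mem_normalizer hc hk) (inv_mem hk)
  have e1 : ∀ l ∈ S, ⁅c⁻¹ * (c * k * c⁻¹ * k⁻¹) * c⁻¹⁻¹, l⁆ = ⁅c * k * c⁻¹ * k⁻¹, l⁆ := fun l hl => by
    have m1 := mul_mem (mul_mem (inv_mem hk) (m l hl)) hk
    have e := h.mul_sq m1 (m k hk)
    rw [show k⁻¹ * (l⁻¹ * (c * l * c⁻¹)) * k * (k⁻¹ * (c * k * c⁻¹)) =
      (l * k)⁻¹ * (c * (l * k) * c⁻¹) by group, s _ (mul_mem hl hk), s k hk,
      show (k⁻¹ * (l⁻¹ * (c * l * c⁻¹)) * k) ^ 2 = k⁻¹ * (l⁻¹ * (c * l * c⁻¹)) ^ 2 * k by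
        simp [pow_two, mul_assoc], s l hl] at e
    replace e := (Commute.cj (commutatorElement_eq_one_iff_commute.1 (by simpa using e.symm)) k).symm
    rw [show k * (k⁻¹ * (c * k * c⁻¹)) * k⁻¹ = c * k * c⁻¹ * k⁻¹ by group,
      show k * (k⁻¹ * (l⁻¹ * (c * l * c⁻¹)) * k) * k⁻¹ = l⁻¹ * (c * l * c⁻¹) by group] at e
    have e2 := h.mul_right ma hl (m l hl)
    rw [commutatorElement_eq_one_iff_commute.2 e, mul_one, mul_inv_cancel_left] at e2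
    rw [← e2, ← mka_cj h ct.inv_left ma (conj_mem_of_mem_normalizer hc hl)]
    congr 1; group
  have e2 := mka_cent h (x := c⁻¹) (by rw [inv_pow, c3, inv_one]) ct.inv_left
    (h.center _ (mul_mem (inv_mem ma) (conj_mem_of_mem_normalizer (inv_mem hc) ma)) fun l hl => by
      rw [← commutatorElement_eq_one_iff_commute, h.mul_left (inv_mem ma)
        (conj_mem_of_mem_normalizer (inv_mem hc) ma) hl, e1 l hl, ← h.mul_left (inv_mem ma) ma hl,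
        inv_mul_cancel, commutatorElement_one_left])
  have e4 := conj_of_comm (Commute.inv_left_iff.1 e2)
  have e5 : (c * k * c⁻¹ * k⁻¹) ^ 3 = 1 := by
    rw [pow_three]
    nth_rw 1 [← e4, ← e4]
    nth_rw 2 [← e4]
    rw [show c * (c * (c * k * c⁻¹ * k⁻¹) * c⁻¹) * c⁻¹ = c * (c * (c * k * c⁻¹) * c⁻¹) * c⁻¹ *
      (c * (c * k * c⁻¹) * c⁻¹)⁻¹ by group, e3]; group
  have e6 : (c * k * c⁻¹ * k⁻¹) ^ 2 = 1 := by
    rw [show c * k * c⁻¹ * k⁻¹ = k * (k⁻¹ * (c * k * c⁻¹)) * k⁻¹ by group, conj_pow, s k hk]; simp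
  rw [pow_succ, e6, one_mul] at e5
  exact (comm_of_conj (mul_inv_eq_one.1 e5)).symm

theorem mka_gn [Finite Y] (hn : ∀ y, y ∈ 𝐍[S]) (ct : ∀ y, Commute y t) (hc : Nat.card S = 128)
    {a w p : Y} (ha : a ∈ S) (a2 : a * a = t) (w3 : w ^ 3 = 1) (p3 : p ^ 3 = 1)
    (e : w * (w * a * w⁻¹) * w⁻¹ = a * (w * a * w⁻¹))
    (c1 : Commute (p * w * p⁻¹) a ∧ Commute (p * w * p⁻¹) w)
    (c2 : Commute (p⁻¹ * w * p) a ∧ Commute (p⁻¹ * w * p) w) : Gn t a (w * a * w⁻¹) w p ∧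
      S = closure {a, w * a * w⁻¹, p * a * p⁻¹, p * (w * a * w⁻¹) * p⁻¹, p⁻¹ * a * p,
        p⁻¹ * (w * a * w⁻¹) * p} := by
  have := Fact.mk Nat.prime_two
  have d1 := (c1.2.mul_right c1.1).mul_right c1.2.inv_right
  have d2 := (c2.2.mul_right c2.1).mul_right c2.2.inv_right
  have sq : ∀ y a, a * a = t → y * a * y⁻¹ * (y * a * y⁻¹) = t := fun y a e => by
    rw [conj_mul, e, conj_of_comm (ct y)]
  have m := fun y {a} (ha : a ∈ S) => conj_mem_of_mem_normalizer (hn y) ha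
  have b2 := sq w a a2
  have hb := m w ha
  have e0 : w * a * w⁻¹ = w * a * w⁻¹ := rfl
  generalize hb' : w * a * w⁻¹ = b at e hb b2 d1 d2 ⊢
  have ab : ⁅a, b⁆ = t := by
    have := h.mul_sq ha hb
    rwa [pow_two, pow_two, pow_two, ← e, sq w b b2, a2, b2, h.z_mul_z, one_mul, eq_comm] at this
  have o : ∀ y ∈ S, Commute w y → Commute a y ∧ Commute b y := fun y hy c => by
    have f1 := mka_cj h (ct w) ha hy
    have f2 := mka_cj h (ct w) hb hy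
    rw [conj_of_comm c] at f1 f2
    rw [e, h.mul_left ha hb hy, mul_eq_right] at f2
    rw [hb', f2] at f1
    exact ⟨commutatorElement_eq_one_iff_commute.1 f2, commutatorElement_eq_one_iff_commute.1 f1⟩
  have k1 : ∀ {y}, Commute (p⁻¹ * w * p) y → Commute w (p * y * p⁻¹) := fun c => by
    simpa [mul_assoc] using Commute.cj c p
  have k2 : ∀ {y}, Commute (p * w * p⁻¹) y → Commute w (p⁻¹ * y * p) := fun c => by
    simpa [mul_assoc] using Commute.cj c p⁻¹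
  have pp : ∀ y, p * (p * y * p⁻¹) * p⁻¹ = p⁻¹ * y * p := fun y => by
    nth_rw 2 [← mka_e3 p3 y]; group
  have o1 := o _ (m p ha) (k1 c2.1)
  have o2 := o _ (m p hb) (k1 d2)
  have m2 : ∀ {y}, y ∈ S → p⁻¹ * y * p ∈ S := fun hy => pp _ ▸ m p (m p hy)
  have o3 := o _ (m2 ha) (k2 c1.1)
  have o4 := o _ (m2 hb) (k2 d1)
  refine ⟨⟨h.z_ne_one, h.z_mul_z, a2, b2, by
    rw [← h.z_inv, ← ab, commutatorElement_def]; group, o1.1, o2.1, o1.2, o2.2, p3, w3, hb', e,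
    k1 c2.1, k1 d2, k2 c1.1, k2 d1⟩, le_antisymm (fun s hs => ?_) ((closure_le _).2 ?_)⟩
  swap
  · rintro _ (rfl | rfl | rfl | rfl | rfl | rfl)
    exacts [ha, hb, m p ha, m p hb, m2 ha, m2 hb]
  have h1 := h.inf_centralizer ha hb ab
  have a1 := IsES.mem_inf_centralizer.2 ⟨m p ha, o1⟩
  have b1 := IsES.mem_inf_centralizer.2 ⟨m p hb, o2⟩
  have ab1 := (mka_cj h (ct p) ha hb).trans ab
  have h2 := h1.inf_centralizer a1 b1 ab1
  have a3 := IsES.mem_inf_centralizer.2 ⟨IsES.mem_inf_centralizer.2 ⟨m2 ha, o3⟩,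
    pp a ▸ Commute.cj o1.1 p, pp a ▸ Commute.cj o1.2 p⟩
  have b3 := IsES.mem_inf_centralizer.2 ⟨IsES.mem_inf_centralizer.2 ⟨m2 hb, o4⟩,
    pp b ▸ Commute.cj o2.1 p, pp b ▸ Commute.cj o2.2 p⟩
  have ab2 : ⁅p⁻¹ * a * p, p⁻¹ * b * p⁆ = t := by
    simpa only [inv_inv] using (mka_cj h (ct p⁻¹) ha hb).trans ab
  have h3 := h2.inf_centralizer a3 b3 ab2
  have n1 := h.card_eq_mul ha hb ab
  have n2 := h1.card_eq_mul a1 b1 ab1
  have n3 := h2.card_eq_mul a3 b3 ab2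
  have z := eq_of_le_of_card_ge h3.zpowers_le (by rw [Nat.card_zpowers, h.ord]; omega)
  obtain ⟨i1, j1, s, hs1, rfl⟩ := h.exists_decomp ha hb ab hs
  obtain ⟨i2, j2, s, hs2, rfl⟩ := h1.exists_decomp a1 b1 ab1 hs1
  obtain ⟨i3, j3, s, hs3, rfl⟩ := h2.exists_decomp a3 b3 ab2 hs2
  refine mul_mem (mul_mem (zpow_mem (subset_closure (by simp)) _)
    (zpow_mem (subset_closure (by simp)) _)) (mul_mem (mul_mem (zpow_mem (subset_closure (by simp)) _)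
    (zpow_mem (subset_closure (by simp)) _)) (mul_mem (mul_mem (zpow_mem (subset_closure (by simp)) _)
    (zpow_mem (subset_closure (by simp)) _)) (zpowers_le.2 ?_ (z.ge hs3))))
  exact a2 ▸ mul_mem (subset_closure (by simp)) (subset_closure (by simp))

end

theorem mka_3 : ∀ c : C3, 3 • c = 0 := by decide

theorem mka_lift {Y K : Type*} [Group Y] [Finite Y] [Group K] (π : Y →* K)
    (hs : Function.Surjective π) (h4 : ∀ r ∈ π.ker, r ^ 4 = 1) {j : C3 → K}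
    (add : ∀ a b, j (a + b) = j a * j b) : ∃ J : C3 → Y, (∀ c, π (J c) = j c) ∧
      (∀ a b, J (a + b) = J a * J b) ∧ ∀ g (f : C3 → C3), (∀ c, g * j c * g⁻¹ = j (f c)) →
        ∃ n, π n = g ∧ ∀ c, n * J c * n⁻¹ = J (f c) := by
  have := Fact.mk Nat.prime_three
  have := Finite.of_surjective π hs
  let j' : Multiplicative C3 →* K := MonoidHom.mk' (fun c => j c.toAdd) add
  obtain ⟨T, hT⟩ := exists_isSyl 3 (j'.range.comap π)
  have e1 : j'.range = T.map π := (hT.map π).eq (isPGroup_iff.2 (by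
      rintro _ ⟨c, rfl⟩
      exact ⟨1, by rw [← map_pow, show c ^ 3 ^ 1 = 1 from mka_3 c.toAdd, map_one]⟩))
    (map_le_iff_le_comap.2 hT.le) (map_comap_eq_self_of_surjective hs _).ge
  choose J m e using fun c : C3 => e1.le ⟨Multiplicative.ofAdd c, rfl⟩
  have u : ∀ a ∈ T, ∀ b ∈ T, π a = π b → a = b := fun a ha b hb e => by
    obtain ⟨k, hk⟩ := isPGroup_iff.1 hT.pgrp _ (mul_mem ha (inv_mem hb))
    exact mul_inv_eq_one.1 ((pow_eq_one_iff_of_coprime (Nat.Coprime.pow_left k (by norm_num))).1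
      ⟨hk, h4 _ (by simp [MonoidHom.mem_ker, e])⟩)
  replace e : ∀ c, π (J c) = j c := e
  refine ⟨J, e, fun a b => u _ (m _) _ (mul_mem (m _) (m _)) (by rw [map_mul, e, e, e, add]),
    fun g f a => ?_⟩
  obtain ⟨g, rfl⟩ := hs g
  obtain ⟨l, ⟨c, hc⟩, x, hx, rfl⟩ := hT.frattini (g := g) (mem_normalizer_fintype (by
    rintro y ⟨c, hc⟩
    exact ⟨Multiplicative.ofAdd (f c.toAdd), by
      rw [map_mul π _ g⁻¹, map_mul, map_inv, ← hc]; exact (a _).symm⟩))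
  have hn := mul_mem (le_normalizer (m c.toAdd)) hx
  have e2 : π (J c.toAdd * x) = π (l * x) := by rw [map_mul, map_mul, e, ← hc]; rfl
  exact ⟨_, e2, fun d => u _ (conj_mem_of_mem_normalizer hn (m d)) _ (m _) (by
    rw [map_mul π _ _⁻¹, map_mul π _ (J d), map_inv, e2, e, e, a])⟩

/-- the three transpositions -/
def mkaT (i : F3) (c : C3) : C3 :=
  if i = 0 then (c.2.1, c.1, c.2.2) else if i = 1 then (c.1, c.2.2, c.2.1) else (c.2.2, c.2.1, c.1)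

theorem mka_dec : ∀ u ∈ [((1, 0, 0) : C3), (2, 1, 1), (0, 2, 2)],
    ∀ v ∈ [((0, 1, 0) : C3), (1, 2, 1), (2, 0, 2)], ∃ e : C3, ∃ i,
    (∃ m < 3, ∃ n < 3, e = (1, 1, 1) + (m • u + n • v)) ∧
    (∃ m < 3, ∃ n < 3, (e.2.2, e.1, e.2.1) = m • u + n • v) ∧
    (∃ m < 3, ∃ n < 3, (e.2.1, e.2.2, e.1) = m • u + n • v) ∧ mkaT i e = (e.2.2, e.1, e.2.1) ∧
    mkaT i (e.2.2, e.1, e.2.1) = e ∧ mkaT i (e.2.1, e.2.2, e.1) = (e.2.1, e.2.2, e.1) := by
  decide +kernel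

/-- Decomposition of `2^(1+6)` under `3³`. -/
theorem exists_Gn {Y K : Type*} [Group Y] [Finite Y] [Group K] (π : Y →* K)
    (hs : Function.Surjective π) {t : Y} (es : IsES 2 t π.ker) (hc : Nat.card π.ker = 128)
    (hC : ∀ y, (∀ r ∈ π.ker, Commute y r) → y ∈ π.ker) {j : C3 → K} {p s : K} (kd : KD j p s) :
    ∃ a b w q n : Y, Gn t a b w q ∧
      π.ker = closure {a, b, q * a * q⁻¹, q * b * q⁻¹, q⁻¹ * a * q, q⁻¹ * b * q} ∧
      n * w * n⁻¹ = q * w * q⁻¹ ∧ n * (q * w * q⁻¹) * n⁻¹ = w ∧ Commute n (q⁻¹ * w * q) ∧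
      IsConj s (π n) := by
  have := Fact.mk Nat.prime_two
  have hn : ∀ y, y ∈ 𝐍[π.ker] := fun y => (normalizer_eq_top_iff.2 inferInstance).ge trivial
  have ct : ∀ y, Commute y t := fun y => by
    refine comm_of_conj ((es.eq_one_or_eq (es.center _ (conj_mem_of_mem_normalizer (hn y) es.mem)
      fun b hb => comm_conj_iff.2 (es.central _ ?_).symm)).resolve_left (by simpa using es.z_ne_one))
    simpa using conj_mem_of_mem_normalizer (hn y⁻¹) hb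
  have h4 : ∀ r ∈ π.ker, r ^ 4 = 1 := fun r hr => by
    rw [show 4 = 2 * 2 from rfl, pow_mul]; exact es.pow_eq_one (es.pow_mem hr)
  obtain ⟨J, eJ, add, li⟩ := mka_lift π hs h4 kd.add
  have J0 : J 0 = 1 := by simpa using add 0 0
  have Jn : ∀ (m : ℕ) c, J (m • c) = J c ^ m := fun m c => by
    induction m with
    | zero => simp [J0]
    | succ m ih => rw [succ_nsmul, add, ih, pow_succ]
  have J3 : ∀ c, J c ^ 3 = 1 := fun c => by rw [← Jn, mka_3, J0]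
  have Jc : ∀ a b, Commute (J a) (J b) := fun a b => by
    rw [Commute, SemiconjBy, ← add, ← add, add_comm]
  have Ji : ∀ a b, J a = J b → a = b := fun a b e => sub_eq_zero.1 (kd.inj _ (by
    have := add (a - b) b
    rw [sub_add_cancel, e, right_eq_mul] at this
    rw [← eJ, this, map_one]))
  have Jm : ∀ a, (J a)⁻¹ = J (-a) := fun a => by
    rw [inv_eq_iff_mul_eq_one, ← add, add_neg_cancel, J0]
  obtain ⟨q, q1, q3, q2⟩ : ∃ q, π q = p ∧ q ^ 3 = 1 ∧ ∀ c, q * J c * q⁻¹ = J (c.2.2, c.1, c.2.1) := by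
    obtain ⟨q, q1, q2⟩ := li p _ kd.pj
    refine ⟨q ^ 4, by rw [map_pow, q1, pow_succ, kd.p3, one_mul], by
      rw [← pow_mul, mul_comm, pow_mul]; exact h4 _ (by rw [MonoidHom.mem_ker, map_pow, q1, kd.p3]),
      fun c => ?_⟩
    rw [show q ^ 4 * J c * (q ^ 4)⁻¹ = q * (q * (q * (q * J c * q⁻¹) * q⁻¹) * q⁻¹) * q⁻¹ by
      simp only [pow_succ, pow_zero, one_mul, mul_inv_rev, mul_assoc], q2, q2, q2, q2]
  have q2' : ∀ c, q⁻¹ * J c * q = J (c.2.1, c.2.2, c.1) := fun c => by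
    rw [show J c = q * J (c.2.1, c.2.2, c.1) * q⁻¹ from (q2 (c.2.1, c.2.2, c.1)).symm]; group
  have tr : ∀ i, ∃ n, IsConj s (π n) ∧ ∀ c, n * J c * n⁻¹ = J (mkaT i c) := fun i => by
    obtain ⟨n, rfl, n2⟩ := li s _ kd.sj
    rcases f3_cases i with rfl | rfl | rfl
    · exact ⟨n, IsConj.refl _, n2⟩
    · refine ⟨q * n * q⁻¹, isConj_iff.2 ⟨π q, by simp⟩, fun c => ?_⟩
      rw [show q * n * q⁻¹ * J c * (q * n * q⁻¹)⁻¹ = q * (n * (q⁻¹ * J c * q) * n⁻¹) * q⁻¹ by group,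
        q2', n2, q2]; rfl
    · refine ⟨q⁻¹ * n * q, isConj_iff.2 ⟨(π q)⁻¹, by simp⟩, fun c => ?_⟩
      rw [show q⁻¹ * n * q * J c * (q⁻¹ * n * q)⁻¹ = q⁻¹ * (n * (q * J c * q⁻¹) * n⁻¹) * q by group,
        q2, n2, q2']; rfl
  have st : ∀ S : Subgroup Y, S ≤ π.ker → (∀ c, J c ∈ 𝐍[S]) → ¬ S ≤ centralizer {J (1, 1, 1)} →
      ∀ x, x ≠ 0 ∧ x ≠ (1, 1, 1) ∧ x ≠ -(1, 1, 1) → ∃ u ∈ [x, x + (1, 1, 1), x + -(1, 1, 1)],
        ¬ S ⊓ centralizer {J u} ≤ centralizer {J (1, 1, 1)} := fun S le nS n x hx => by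
    by_contra! c
    refine n (le_of_four (J3 x) (J3 (1, 1, 1)) (Jc _ _) (fun e => absurd (Ji _ _ (e.trans J0.symm))
      (by decide)) (fun e => ?_) (nS _) (nS _) (Nat.Coprime.coprime_dvd_left (card_dvd_of_le le)
        (by rw [hc]; decide)) fun k hk d => ?_)
    · rw [mem_zpowers_three (J3 _), Jm, ← J0] at e
      exact e.elim (fun e => hx.1 (Ji _ _ e)) fun e => e.elim (fun e => hx.2.1 (Ji _ _ e))
        fun e => hx.2.2 (Ji _ _ e)
    · rw [Jm, ← add, ← add] at d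
      rcases d with d | d | d | d
      exacts [c _ (by simp) ⟨hk, mem_cent.2 d⟩, mem_cent.2 d, c _ (by simp) ⟨hk, mem_cent.2 d⟩,
        c _ (by simp) ⟨hk, mem_cent.2 d⟩]
  have ni : ∀ S : Subgroup Y, (∀ c, J c ∈ 𝐍[S]) → ∀ u c, J c ∈ 𝐍[S ⊓ centralizer {J u}] :=
    fun S nS u c => mem_normalizer_fintype fun y hy => ⟨conj_mem_of_mem_normalizer (nS c) hy.1,
      mem_cent.2 (((Jc c u).mul_left (mem_cent.1 hy.2)).mul_left (Jc c u).inv_left)⟩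
  obtain ⟨u, hu, n1⟩ := st _ le_rfl (fun _ => hn _) (fun a => absurd (kd.inj (1, 1, 1)
    (eJ _ ▸ hC _ fun r hr => (mem_cent.1 (a hr)).symm)) (by decide)) (1, 0, 0) (by decide)
  obtain ⟨v, hv, n2⟩ := st _ inf_le_left (ni _ (fun _ => hn _) u) n1 (0, 1, 0) (by decide)
  obtain ⟨a, ⟨⟨ha, au⟩, av⟩, a2, e⟩ := mka_quat (mka_inf (mka_inf es (J3 u) (ct _) (hn _)) (J3 v) (ct _)
    (ni _ (fun _ => hn _) u v)) (J3 (1, 1, 1)) (ct _) (ni _ (ni _ (fun _ => hn _) u) v _) n2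
  obtain ⟨c, i, ⟨m0, -, n0, -, e0⟩, ⟨m1, -, n1, -, e1⟩, ⟨m2, -, n2, -, e2⟩, t1, t2, t3⟩ :=
    mka_dec u hu v hv
  have k : ∀ m n : ℕ, Commute (J (m • u + n • v)) a := fun m n => by
    rw [add, Jn, Jn]
    exact ((mem_cent.1 au).symm.pow_left m).mul_left ((mem_cent.1 av).symm.pow_left n)
  have k1 : ∀ y, Commute (J (m0 • u + n0 • v)) y →
      J c * y * (J c)⁻¹ = J (1, 1, 1) * y * (J (1, 1, 1))⁻¹ := fun y d => by
    rw [e0, add]; nth_rw 2 [← conj_of_comm d]; group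
  obtain ⟨n, n3, n4⟩ := tr i
  obtain ⟨g1, g2⟩ := mka_gn es hn ct hc (w := J c) ha a2 (J3 c) q3 (by
    rw [k1 a (k _ _), k1 _ (((Jc _ _).mul_right (k _ _)).mul_right (Jc _ _).inv_right), e])
    (by rw [q2]; exact ⟨e1 ▸ k _ _, Jc _ _⟩) (by rw [q2']; exact ⟨e2 ▸ k _ _, Jc _ _⟩)
  exact ⟨a, _, _, q, n, g1, g2, by rw [n4, q2, t1], by rw [q2, n4, t2],
    comm_of_conj (by rw [q2', n4, t3]), n3⟩

end Cfsg.Agent.B8L
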