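import Mathlib
import Cfsg.Agent.B8L.MkA
import Cfsg.Agent.B8L.MkB

/-! Normal form of the group induced on `Q/Z`. -/

set_option autoImplicit false

namespace Cfsg.Agent.B8L

open Subgroup
open Cfsg.Agent.F22L (F3 W2 o2 SL qi qj Wr map_f3)

open Cfsg.Agent.Grp.ES

theorem R0_eq : R0 = closure {f0 qi, f0 qj, f1 qi, f1 qj, f2 qi, f2 qj} := by
  refine le_antisymm (R0_ind ?_ ?_ ?_ ?_ ?_ ?_) ((closure_le _).2 ?_)
  iterate 6 exact subset_closure (by simp)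
  rintro x (rfl | rfl | rfl | rfl | rfl | rfl)
  exacts [f0_mem qi_mem, f0_mem qj_mem, f1_mem qi_mem, f1_mem qj_mem, f2_mem qi_mem,
    f2_mem qj_mem]

theorem cyi_f0 (a : SL) : cy⁻¹ * f0 a * cy = f2 a := by rw [← cy_f2]; group

theorem jv_ind {P : Subgroup A8} (h0 : jv (1, 0, 0) ∈ P) (h1 : jv (0, 1, 0) ∈ P)
    (h2 : jv (0, 0, 1) ∈ P) (c : C3) : jv c ∈ P := by
  rw [(by decide +kernel : ∀ c : C3,
    jv c = jv (1, 0, 0) ^ c.1.val * jv (0, 1, 0) ^ c.2.1.val * jv (0, 0, 1) ^ c.2.2.val) c]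
  exact mul_mem (mul_mem (pow_mem h0 _) (pow_mem h1 _)) (pow_mem h2 _)

theorem shape {n : A8} (nR : ∀ r ∈ R0, n * r * n⁻¹ ∈ R0)
    (n1 : n * jv (1, 0, 0) * n⁻¹ = jv (0, 1, 0)) (n2 : n * jv (0, 1, 0) * n⁻¹ = jv (1, 0, 0))
    (n3 : Commute n (jv (0, 0, 1))) : ∃ c, n = jv c * r0 ∨ n = ng * (jv c * r0) := by
  have k : ∀ c d : C3, r0 * jv c * r0⁻¹ = jv d → n * jv d * n⁻¹ = jv c →
      jv c ∈ centralizer {n * r0} := fun c d e1 e2 => by
    rw [mem_centralizer_singleton_iff, mul_assoc n r0, mul_inv_eq_iff_eq_mul.1 e1, ← e2]; group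
  obtain ⟨c, hc⟩ := cent_J (g := n * r0) (fun r hr => by
    convert nR _ (r0_R0 hr) using 1; group) fun c => Commute.symm
      (mem_centralizer_singleton_iff.1 (jv_ind (k _ _ (r0_jv _) n2) (k _ _ (r0_jv _) n1)
        (k _ _ (r0_jv _) (by rw [n3.eq, mul_inv_cancel_right])) c))
  refine ⟨c, hc.imp (fun e => ?_) fun e => ?_⟩
  · rw [← e, mul_assoc, r0_sq, mul_one]
  · rw [← mul_assoc, ← e, mul_assoc, r0_sq, mul_one]

theorem shape2 {c : C3} (h : jv c * r0 * (jv c * r0) ∈ R0) :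
    ∃ d, jv c * r0 = jv d * r0 * (jv d)⁻¹ := by
  have e : jv c * r0 * (jv c * r0) = jv (c + (c.2.1, c.1, c.2.2)) := by
    rw [jv_add, ← r0_jv, r0_inv]; simp only [mul_assoc]
  have h4 := R0_four h
  rw [e, pow_succ, jv_cube, one_mul] at h4
  exact (by decide +kernel : ∀ c : C3, c + (c.2.1, c.1, c.2.2) = 0 →
    ∃ d, jv c * r0 = jv d * r0 * (jv d)⁻¹) c (jv_one _ h4)

theorem xk_of {Y K : Type*} [Group Y] [Group K] {X : Subgroup A8} (e : Y ≃* X) (π : Y →* K)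
    (hs : Function.Surjective π) (sp : ∀ x ∈ X, Sp x) (hc : Nat.card π.ker = 128) {a b w q n : Y}
    (ha : (e a).1 = f0 qi) (hb : (e b).1 = f0 qj) (hw : (e w).1 = jv (1, 0, 0)) (hq : (e q).1 = cy)
    (hk : π.ker = closure {a, b, q * a * q⁻¹, q * b * q⁻¹, q⁻¹ * a * q, q⁻¹ * b * q})
    (n1 : n * w * n⁻¹ = q * w * q⁻¹) (n2 : n * (q * w * q⁻¹) * n⁻¹ = w)
    (n3 : Commute n (q⁻¹ * w * q)) {s : K} (hn : IsConj s (π n)) (s2 : s * s = 1)
    (syl : ¬ 243 ∣ Nat.card K) : XK X (π.comp e.symm.toMonoidHom) s := by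
  obtain ⟨φ, hφ⟩ : ∃ φ : Y →* A8, ∀ y, (e y).1 = φ y := ⟨X.subtype.comp e.toMonoidHom, fun _ => rfl⟩
  have inj : Function.Injective φ := fun x y h => e.injective (Subtype.ext (by rw [hφ, hφ, h]))
  have mem : ∀ y, φ y ∈ X := fun y => hφ y ▸ (e y).2
  have sur : ∀ x ∈ X, ∃ y, φ y = x := fun x hx => ⟨e.symm ⟨x, hx⟩, by rw [← hφ]; simp⟩
  rw [hφ] at ha hb hw hq
  have mp : π.ker.map φ = R0 := by
    rw [hk, MonoidHom.map_closure, R0_eq]
    simp only [Set.image_insert_eq, Set.image_singleton, map_mul, map_inv, ha, hb, hq, cy_f0, cyi_f0]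
  have kr : ∀ y, π y = 1 ↔ φ y ∈ R0 := fun y => by
    rw [← mp, mem_map_iff_mem inj, MonoidHom.mem_ker]
  have nR : ∀ y, ∀ r ∈ R0, φ y * r * (φ y)⁻¹ ∈ R0 := fun y r hr => by
    rw [← mp] at hr
    obtain ⟨r, hr, rfl⟩ := hr
    rw [← map_inv, ← map_mul, ← map_mul, ← kr]
    exact π.normal_ker.conj_mem r hr y
  have j1 : φ (q * w * q⁻¹) = jv (0, 1, 0) := by rw [map_mul, map_mul, map_inv, hw, hq, cy_jv]
  have j2 : φ (q⁻¹ * w * q) = jv (0, 0, 1) := by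
    rw [map_mul, map_mul, map_inv, hw, hq, ← cy_jv (0, 0, 1)]; group
  have hj : ∀ c, jv c ∈ X := jv_ind (hw ▸ mem _) (j1 ▸ mem _) (j2 ▸ mem _)
  have RX : R0 ≤ X := by rw [← mp]; rintro _ ⟨r, -, rfl⟩; exact mem r
  obtain ⟨c, hc'⟩ := shape (nR n) (by rw [← j1, ← n1, ← hw]; simp only [map_mul, map_inv])
    (by rw [← j1, ← hw]; conv_rhs => rw [← n2]
        simp only [map_mul, map_inv]) (j2 ▸ n3.map φ)
  have hr : r0 ∈ X := by
    rcases hc' with h | h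
    · exact (mul_mem_cancel_left (hj c)).1 (h ▸ mem n)
    · exact (mul_mem_cancel_left (hj c)).1 ((mul_mem_cancel_left (RX ng_mem)).1 (h ▸ mem n))
  have nn : φ n * φ n ∈ R0 := by
    obtain ⟨g, hg⟩ := isConj_iff.1 hn
    rw [← map_mul, ← kr, map_mul, ← hg, conj_mul, s2]; simp
  obtain ⟨d, hd⟩ := shape2 (c := c) (by
    rcases hc' with h | h
    · rwa [h] at nn
    · rwa [h, (ng_comm _).symm.mul_mul_mul_comm, ng_sq, one_mul] at nn)
  refine ⟨⟨sp, RX, fun x hx => ?_, hj, hq ▸ mem q, hr, fun h => syl ?_⟩, hs.comp e.symm.surjective,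
    fun x => ?_, hn.trans ?_, ?_⟩
  · obtain ⟨y, rfl⟩ := sur x hx
    exact nR y
  · rw [← Nat.card_congr e.toEquiv, ← π.ker.card_mul_index, hc, index_ker,
      MonoidHom.range_eq_top.2 hs, card_top] at h
    exact Nat.Coprime.dvd_of_dvd_mul_left (by norm_num) h
  · rw [MonoidHom.comp_apply, kr, ← hφ]; simp
  · obtain ⟨u, hu⟩ := sur _ hr
    obtain ⟨v, hv⟩ := sur _ (hj d)
    obtain ⟨z, hz⟩ := sur _ (RX ng_mem)
    have e1 : (π.comp e.symm.toMonoidHom) ⟨r0, hr⟩ = π u := by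
      rw [show (⟨r0, hr⟩ : X) = e u from Subtype.ext (by rw [hφ, hu])]; simp
    have e2 : π n = π v * π u * (π v)⁻¹ := by
      rw [hd, ← hu, ← hv, ← hz, ← map_inv, ← map_mul, ← map_mul, ← map_mul] at hc'
      rcases hc' with h | h
      · rw [inj h]; simp
      · rw [inj h, map_mul, (kr z).2 (hz ▸ ng_mem)]; simp
    rw [e1, e2]
    exact (isConj_iff.2 ⟨π v, rfl⟩).symm
  · rw [← mp, card_map_of_injective inj, hc]

/-- Proof. `exists_Gn` in the group `Y`; `t` is central in `Y` (`y t y⁻¹` is central in the normal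
subgroup `π.ker`, so in `{1,t}`). Push `Gn` to `A8` by `Y.subtype`; `Gn.exists_θ`.
`X = θ⁻¹ Y θ`, `e : X ≃* Y`, `π' = π ∘ e`. `Sp` for `X`: `ε * om (x v) (x w) = ε * om v w`.
The six generators go to `fₖ qi, fₖ qj` (`cy_f0`, `cy_f2`), so the kernel goes onto `R0`
(`R0_ind`, `closure_le`); this gives `R`, `nR`, `ker`, `cR`. `jv (1,0,0), cy ∈ X` give all
`jv c` (`cy_jv`, `jv_add`; every `c` is a sum of unit vectors). `|X| = 128 |K|` gives `syl`
(`Nat.Coprime.dvd_of_dvd_mul_left`). `n' = θ⁻¹ n θ` interchanges `jv (1,0,0)`, `jv (0,1,0)`,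
fixes `jv (0,0,1)`; so `n' r0` normalizes `R0` (`r0_R0`), centralizes all `jv c` (`r0_jv`), and is
`jv c` or `ng * jv c` (`cent_J`): `r0 ∈ X`. `(π' n')² = 1` (`s² = 1`), `n'² = jv (c + sw c)`
lies in `R0`, has cube 1 and fourth power 1 (`R0_four`), so `c = (a,-a,0)` and
`n' = ± jv (a,0,0) r0 jv (a,0,0)⁻¹`. -/
theorem exists_XK {Y : Subgroup A8} (sp : ∀ x ∈ Y, Sp x) {K : Type*} [Group K] (π : Y →* K)
    (hs : Function.Surjective π) {t : Y} (es : IsES 2 t π.ker) (hc : Nat.card π.ker = 128)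
    (hC : ∀ y, (∀ r ∈ π.ker, Commute y r) → y ∈ π.ker) {j : C3 → K} {p s : K} (kd : KD j p s) :
    ∃ (θ : A8) (ε : F3), ε ≠ 0 ∧ (∀ v w, om (θ v) (θ w) = ε * om v w) ∧
      ∃ π' : Y.map (MulAut.conj θ⁻¹).toMonoidHom →* K, XK _ π' s := by
  obtain ⟨a, b, w, q, n, g, hk, n1, n2, n3, hn⟩ := exists_Gn π hs es hc hC kd
  have qt : Commute q t := by
    have h := es.center _ (π.normal_ker.conj_mem t es.mem q) fun r hr => by
      simpa [mul_assoc] using ((es.central _ (π.normal_ker.conj_mem r hr q⁻¹)).symm.map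
        (MulAut.conj q))
    obtain ⟨k, hk⟩ := (mem_zpowers_iff_mem_range_orderOf).1 h |> Finset.mem_image.1
    rw [es.ord, Finset.mem_range] at hk
    obtain ⟨k2, hk⟩ := hk
    interval_cases k
    · exact absurd (conj_eq_one_iff.1 (hk.symm.trans (pow_zero t))) g.t1
    · exact mul_inv_eq_iff_eq_mul.1 (hk.symm.trans (pow_one t))
  have g' : Gn t.1 a.1 b.1 w.1 q.1 := ⟨fun h => g.t1 (Subtype.ext h), congrArg Subtype.val g.t2,
    congrArg Subtype.val g.a2, congrArg Subtype.val g.b2, congrArg Subtype.val g.ba,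
    g.aa.map Y.subtype, g.ab.map Y.subtype, g.ba'.map Y.subtype, g.bb.map Y.subtype,
    congrArg Subtype.val g.p3, congrArg Subtype.val g.w3, congrArg Subtype.val g.wa,
    congrArg Subtype.val g.wb, g.wa1.map Y.subtype, g.wb1.map Y.subtype, g.wa2.map Y.subtype,
    g.wb2.map Y.subtype⟩
  obtain ⟨θ, ε, e0, hθ, ha, hb, hw, hq⟩ := g'.exists_θ (qt.map Y.subtype) (sp _ a.2) (sp _ b.2)
    (sp _ q.2)
  refine ⟨θ, ε, e0, hθ, _, xk_of (Y.equivMapOfInjective (MulAut.conj θ⁻¹).toMonoidHom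
    (MulAut.conj θ⁻¹).injective) π hs ?_ hc ha hb hw hq hk n1 n2 n3 hn kd.s2 kd.syl⟩
  rintro _ ⟨x, hx, rfl⟩ v v'
  apply mul_left_cancel₀ e0
  rw [← hθ, ← hθ, ← sp x hx (θ v)]
  simp

end Cfsg.Agent.B8L
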