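import Mathlib
import Cfsg.Agent.PLocal.FStar
import Cfsg.Agent.F22L.Mk
import Cfsg.Agent.B8L.MkQ
import Cfsg.Agent.B8L.MkX

/-! From the hypotheses of the recognition theorems to coordinates. -/

set_option autoImplicit false

namespace Cfsg.Agent.B8L

open Subgroup
open Cfsg.Agent.F22L (F3)

theorem setup {G : Type*} [Group G] [Finite G] (S : Sylow 3 G) (Z : Subgroup G) (hZS : Z ≤ S)
    (hZ : Nat.card Z = 3) (Q : Subgroup (centralizer (Z : Set G)))
    (hQF : Q = generalizedFittingSubgroup _) [Q.Normal] (hQ : IsExtraspecial 3 Q)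
    (hc : Nat.card Q = 3 ^ 9) (he : ∀ x ∈ Q, x ^ 3 = 1)
    (hFR : generalizedFittingSubgroup (centralizer (Z : Set G) ⧸ Q) = pCore 2 _)
    (hR : IsExtraspecial 2 (pCore 2 (centralizer (Z : Set G) ⧸ Q)))
    (cR : Nat.card (pCore 2 (centralizer (Z : Set G) ⧸ Q)) = 2 ^ 7)
    [(pCore 2 (centralizer (Z : Set G) ⧸ Q)).Normal]
    {j : C3 → (centralizer (Z : Set G) ⧸ Q) ⧸ pCore 2 _} {p s} (kd : KD j p s)
    (hwc : ∃ g : G, Z.map (MulAut.conj g).toMonoidHom ≤ S ∧ Z.map (MulAut.conj g).toMonoidHom ≠ Z) :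
    ∃ (z : G) (ψ : Hs →* G) (ρ : G → A8) (l : G → V8 →+ F3) (X : Subgroup A8), HS z ψ ρ l X ∧
      (∃ π, XK X π s) ∧ ∃ g : G, Commute (g * z * g⁻¹) z ∧ g * z * g⁻¹ ∉ zpowers z := by
  have := Fact.mk Nat.prime_two
  obtain ⟨z, ψ, ρ, l, X, h, eZ, ⟨e⟩⟩ := exists_HS Z hZ Q hQF hQ hc he
  obtain ⟨t, es, -⟩ := Grp.ES.isES_of_isExtraspecial hR
  have hC := PLocal.centralizer_fstar_le (centralizer (Z : Set G) ⧸ Q)
  rw [hFR] at hC
  generalize pCore 2 (centralizer (Z : Set G) ⧸ Q) = R at *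
  have ek : R.map e.symm.toMonoidHom = ((QuotientGroup.mk' R).comp e.toMonoidHom).ker := by
    rw [← MonoidHom.comap_ker, QuotientGroup.ker_mk']; exact (comap_equiv_eq_map_symm' e R).symm
  obtain ⟨θ, ε, ε0, hθ, xk⟩ := exists_XK (fun _ => h.sp) ((QuotientGroup.mk' R).comp e.toMonoidHom)
    ((QuotientGroup.mk'_surjective R).comp e.surjective)
    (ek ▸ es.map_of_injective _ e.symm.injective)
    (by rw [← ek, card_map_of_injective e.symm.injective, cR]; rfl)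
    (fun y hy => (QuotientGroup.eq_one_iff _).2 (hC fun r hr => by
      simpa using ((hy _ (ek.le ⟨r, hr, rfl⟩)).map e).symm.eq)) kd
  obtain ⟨z', ψ', ρ', l', h', ez⟩ := h.change ε0 hθ
  rw [eZ, ← ez] at hZS hwc
  exact ⟨z', ψ', ρ', l', _, h', xk, F22L.exists_conj_comm h'.ord S hZS fun c =>
    hwc.elim fun g a => a.2 (c.2 g a.1)⟩

end Cfsg.Agent.B8L
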