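import Mathlib
import Cfsg.Agent.PS4.Model3
import Cfsg.Agent.PS4.K3Data
import Cfsg.Agent.PS4.FTP
import Cfsg.Agent.B8L.XD

/-! The data `KD` in `PSp₄(3)` and in the centralizer of a `3`-central element. -/

set_option autoImplicit false
set_option maxRecDepth 100000

namespace Cfsg.Agent.B8L

open Subgroup Cfsg.Agent.Comp Cfsg.Agent.Comp.BN Cfsg.Agent.LES Cfsg.Agent.X32 Cfsg.Agent.X32.TG
  Cfsg.Agent.PS4 Cfsg.Agent.He5

theorem model4 : ∃ χ : PS4.K2 →* P43, Function.Injective χ ∧ χ.range = centralizer {χ (e 1)} ∧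
    64 ∣ Nat.card (centralizer {χ (e 189)}) := by
  classical
  have := simple43
  obtain ⟨y, hy⟩ := link43
  obtain ⟨ρ, hρ⟩ := hy.hom _ _ AG.sat
  have ev' : ∀ W, ρ (ev y W) = ev AG.π W := fun W => by rw [map_ev]; simp only [hρ]
  have pt : ∀ W b, ρ (ev y W) b = ptW AG.act W b := fun W b => by rw [ev', AG.spec.ptW]
  have ne : ∀ W b, ¬ b = ptW AG.act W b → ev y W ≠ 1 := fun W b c h => by
    have e := pt W b
    rw [h, map_one] at e
    exact c e
  have inj : Function.Injective ρ := (MonoidHom.ker_eq_bot_iff ρ).1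
    ((inferInstance : ρ.ker.Normal).eq_bot_or_eq_top.resolve_right fun e => by
      have a := pt [8] 1
      rw [(e.ge (mem_top _) : ρ _ = 1)] at a
      exact absurd a (by change ¬ 1 = _; decide +kernel))
  have rel : ∀ L : List (List ℕ), relsC AG.act PG.I 48 6 L [0, 1, 2, 3, 4, 5] = true →
      ∀ r ∈ L, ev y r = 1 := fun L h r hr => inj (by
    rw [ev', map_one]
    exact rels_of_checks AG.spec (K := 6) (by decide) AG.sat_inv L [[0, 1, 2, 3, 4, 5]] (by decide)
      ⟨h, trivial⟩ r hr)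
  have sat : ∀ (P : Pres) (ws : List (List ℕ)), ws.length ≤ P.inv.length →
      relsC AG.act PG.I 48 6 (((List.range P.inv.length).map fun k => [P.I k, k]).map (subst ws))
        [0, 1, 2, 3, 4, 5] = true →
      relsC AG.act PG.I 48 6 (P.rels.map (subst ws)) [0, 1, 2, 3, 4, 5] = true →
      Sat P (subT y ws) := fun P ws h0 h1 h2 => by
    have out : ∀ k, P.inv.length ≤ k → subT y ws k = 1 := fun k hk => by
      rw [subT, nth_of_le [] ws k (h0.trans hk), ev_nil]
    exact ⟨out, inv_of_lt out fun k hk => by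
      simpa [ev_subst] using rel _ h1 _ (List.mem_map_of_mem (List.mem_map_of_mem
        (List.mem_range.2 hk))), fun r hr => by
      rw [← ev_subst]; exact rel _ h2 _ (List.mem_map_of_mem hr)⟩
  obtain ⟨χ, hχ⟩ := link_hom link2 (sat PS4.P2 (ws3.take 12) (by decide) (by decide +kernel)
    (by decide +kernel))
  obtain ⟨ψ, hψ⟩ := link_hom linkK (sat PK ((List.range 13).map ([·])) (by decide)
    (by decide +kernel) (by decide +kernel))
  have e1 : χ (e 1) = ev y [8] := by
    rw [← (BD.of (by decide +kernel) : ev (tup l2) [0] = e 1), hχ, ← ev_subst]; rfl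
  have e2 : χ (e 189) = ev y [4, 4] := by
    rw [← (BD.of (by decide +kernel) : ev (tup l2) [8, 8] = e 189), hχ, ← ev_subst]; rfl
  have e3 : ψ (e 9) = ev y [4, 4] := by
    rw [← (BD.of (by decide +kernel) : ev (tup lK) [4, 4] = e 9), hψ, ← ev_subst]; rfl
  have i2 := inj2 (φ := χ) (e1 ▸ ne _ 1 (by decide +kernel))
  have z1 : ψ (e 9) ≠ 1 := fun c => absurd (i2 ((e2.trans (e3.symm.trans c)).trans
    (map_one χ).symm)) (BD.of (by decide +kernel))
  have iK : Function.Injective ψ := (injective_iff_map_eq_one ψ).2 fun k a => by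
    rcases (BD.of (by decide +kernel) : ∀ k : K, k = 1 ∨ k = e 9 ∨ ∃ c ∈ es [1, 3, 5, 7],
      c * k * c⁻¹ * k⁻¹ = e 9 ∨ ∃ d ∈ es [1, 3, 5, 7],
        d * (c * k * c⁻¹ * k⁻¹) * d⁻¹ * (c * k * c⁻¹ * k⁻¹)⁻¹ = e 9) k with
      b | rfl | ⟨c, -, b | ⟨d, -, b⟩⟩
    · exact b
    · exact absurd a z1
    · exact absurd (by rw [← b]; simp [a]) z1
    · exact absurd (by rw [← b]; simp [a]) z1
  refine ⟨χ, i2, ?_, ?_⟩
  · have hi : 21 ≤ (centralizer {χ (e 1)}).index := by
      have nd : (cs3.map fun W => ev y (subst ws3 W ++ 8 :: invW PG.I (subst ws3 W))).Nodup :=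
        List.Nodup.of_map (fun g => (List.range 9).map fun b => ρ g b) (by
          rw [List.map_map]
          simp only [Function.comp_def, pt]
          decide +kernel)
      rw [← card_conjugatesOf, Nat.card_coe_set_eq]
      have e := List.toFinset_card_of_nodup nd
      rw [← Set.ncard_coe_finset] at e
      refine e.ge.trans (Set.ncard_le_ncard (fun g hg => ?_) (Set.toFinite _))
      obtain ⟨W, -, rfl⟩ := List.mem_map.1 (List.mem_toFinset.1 hg)
      exact isConj_iff.2 ⟨ev y (subst ws3 W), by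
        rw [e1, ev_append, ev_cons y 8 (invW _ _), ev_invW hy.sat.inv, ev_cons, ev_nil, mul_one,
          mul_assoc]⟩
    have zc : ∀ k : PS4.K2, Commute k (e 1) := BD.of (by decide +kernel)
    have le : χ.range ≤ centralizer {χ (e 1)} := by
      rintro _ ⟨k, rfl⟩; exact mem_cent.2 ((zc k).map χ)
    have cr : Nat.card χ.range = 648 := by
      rw [← Nat.card_congr (MonoidHom.ofInjective i2).toEquiv, TG.card]; rfl
    have e2 := χ.range.card_mul_index
    have e3 := (centralizer {χ (e 1)}).card_mul_index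
    obtain ⟨m, hm⟩ := index_dvd_of_le le
    have e4 : m = 1 := by
      rw [cr, card43, hm] at e2
      rcases m with _ | _ | m
      · omega
      · rfl
      · nlinarith
    exact eq_of_le_of_card_ge le (by
      rw [← e2, hm, e4, mul_one] at e3
      exact (Nat.eq_of_mul_eq_mul_right (by omega) e3).le)
  · have zc : ∀ k : K, Commute k (e 9) := BD.of (by decide +kernel)
    have := card_dvd_of_le (show ψ.range ≤ centralizer {ψ (e 9)} by
      rintro _ ⟨k, rfl⟩; exact mem_cent.2 ((zc k).map ψ))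
    rw [← Nat.card_congr (MonoidHom.ofInjective iK).toEquiv, TG.card, e3, ← e2] at this
    exact Dvd.dvd.trans (by decide) this

noncomputable abbrev jn (a b c : ℕ) : PS4.K2 := e 169 ^ a * e 170 ^ b * e 164 ^ c

variable {K : Type*} [Group K]

theorem kd_of (χ : PS4.K2 →* K) (inj : Function.Injective χ) (h : ¬ 243 ∣ Nat.card K) :
    ∃ j, KD j (χ (e 5)) (χ (e 189)) := by
  have m : ∀ a : F22L.F3, a.val ∈ [0, 1, 2] := by decide
  refine ⟨fun c => χ (jn c.1.val c.2.1.val c.2.2.val), fun a b => ?_, fun a c => ?_, fun c => ?_,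
    fun c => ?_, ?_, ?_, ?_, h⟩
  · rw [← map_mul]
    simp only [Prod.fst_add, Prod.snd_add, ZMod.val_add]
    exact congrArg χ ((BD.of (by decide +kernel) : ∀ a ∈ [0, 1, 2], ∀ b ∈ [0, 1, 2], ∀ c ∈ [0, 1, 2],
      ∀ a' ∈ [0, 1, 2], ∀ b' ∈ [0, 1, 2], ∀ c' ∈ [0, 1, 2],
      jn ((a + a') % 3) ((b + b') % 3) ((c + c') % 3) = jn a b c * jn a' b' c')
        _ (m _) _ (m _) _ (m _) _ (m _) _ (m _) _ (m _))
  · obtain ⟨a, b, c⟩ := (BD.of (by decide +kernel) : ∀ a ∈ [0, 1, 2], ∀ b ∈ [0, 1, 2],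
      ∀ c ∈ [0, 1, 2], jn a b c = 1 → a = 0 ∧ b = 0 ∧ c = 0) _ (m _) _ (m _) _ (m _)
        (inj (c.trans (map_one χ).symm))
    exact Prod.ext ((ZMod.val_eq_zero _).1 a)
      (Prod.ext ((ZMod.val_eq_zero _).1 b) ((ZMod.val_eq_zero _).1 c))
  · rw [← map_inv, ← map_mul, ← map_mul]
    exact congrArg χ ((BD.of (by decide +kernel) : ∀ a ∈ [0, 1, 2], ∀ b ∈ [0, 1, 2], ∀ c ∈ [0, 1, 2],
      e 5 * jn a b c * (e 5)⁻¹ = jn c a b) _ (m _) _ (m _) _ (m _))
  · rw [← map_inv, ← map_mul, ← map_mul]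
    exact congrArg χ ((BD.of (by decide +kernel) : ∀ a ∈ [0, 1, 2], ∀ b ∈ [0, 1, 2], ∀ c ∈ [0, 1, 2],
      e 189 * jn a b c * (e 189)⁻¹ = jn b a c) _ (m _) _ (m _) _ (m _))
  · rw [← map_pow, (BD.of (by decide +kernel) : (e 5 : PS4.K2) ^ 3 = 1), map_one]
  · rw [← map_mul, (BD.of (by decide +kernel) : (e 189 : PS4.K2) * e 189 = 1), map_one]
  · rw [← map_inv, ← map_inv, ← map_mul, ← map_mul]
    exact congrArg χ (BD.of (by decide +kernel))

theorem k3_of (χ : PS4.K2 →* K) {k : PS4.K2} (h : Commute k (e 189)) : χ k ∈ K3 (χ (e 189)) := by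
  have m : ∀ a ∈ (es [0, 1, 2, 135, 162, 297, 324, 405, 432, 513, 540] : List PS4.K2),
      χ a ∈ K3 (χ (e 189)) := fun a ha => by
    obtain ⟨h1, h2⟩ := (BD.of (by decide +kernel) : ∀ a ∈ (es [0, 1, 2, 135, 162, 297, 324, 405, 432,
      513, 540] : List PS4.K2), a ^ 3 = 1 ∧ Commute a (e 189)) a ha
    exact subset_closure ⟨by rw [← map_pow, h1, map_one], h2.map χ⟩
  obtain ⟨a, ha, b, hb, c, hc, d, hd, rfl⟩ := (BD.of (by decide +kernel) : ∀ k : PS4.K2,
    Commute k (e 189) → ∃ a ∈ es [0, 1, 2, 135, 162, 297, 324, 405, 432, 513, 540],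
      ∃ b ∈ es [0, 1, 2, 135, 162, 297, 324, 405, 432, 513, 540],
      ∃ c ∈ es [0, 1, 2, 135, 162, 297, 324, 405, 432, 513, 540],
      ∃ d ∈ es [0, 1, 2, 135, 162, 297, 324, 405, 432, 513, 540], k = a * b * c * d) k h
  simp only [map_mul]
  exact mul_mem (mul_mem (mul_mem (m a ha) (m b hb)) (m c hc)) (m d hd)

theorem card_cent43 (f : K ≃* P43) (s : K) :
    Nat.card (centralizer {s}) = Nat.card (centralizer {f s}) :=
  Nat.card_congr (f.toEquiv.subtypeEquiv fun _ => ⟨fun h => mem_cent.2 ((mem_cent.1 h).map f),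
    fun h => mem_cent.2 (Commute.of_map f.injective (mem_cent.1 h))⟩)

variable {F : Type} [Field F] [Fintype F]

theorem kd_b (hF : Fintype.card F = 3) (f : K ≃* PSp 2 F) : ∃ (j : C3 → K) (p s : K), KD j p s ∧
    IsSimpleGroup K ∧ 64 ∣ Nat.card (centralizer {s}) ∧ s ∈ K3 s ∧ s ≠ 1 := by
  have := simple43
  have g := f.trans (Class.pspCongr 2 (Class.ringEquivZMod hF))
  obtain ⟨χ, inj, -, c⟩ := model4
  have i : Function.Injective (g.symm.toMonoidHom.comp χ) := g.symm.injective.comp inj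
  obtain ⟨j, hj⟩ := kd_of _ i (by rw [Nat.card_congr g.toEquiv, card43]; decide)
  refine ⟨j, _, _, hj, g.isSimpleGroup, by rw [card_cent43 g]; simpa using c, k3_of _ (.refl _),
    fun a => absurd (i (a.trans (map_one _).symm)) (BD.of (by decide +kernel))⟩

theorem kd_fi (hF : Fintype.card F = 3) {x : PSp 2 F} (hx : orderOf x = 3) (P : Sylow 3 (PSp 2 F))
    (hP : (P : Subgroup (PSp 2 F)) ≤ centralizer {x}) (f : K ≃* centralizer {x}) :
    ∃ (j : C3 → K) (p s : K), KD j p s ∧ Nat.card (centralizer {s}) = 72 ∧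
      ∀ x, Commute x s → x ∈ K3 s := by
  have := Fact.mk Nat.prime_three
  have : Finite (Matrix.symplecticGroup (Fin 2) F) := inferInstance
  have g := (Class.pspCongr 2 (Class.ringEquivZMod hF)).symm
  obtain ⟨χ, inj, r, -⟩ := model4
  have cG : Nat.card (PSp 2 F) = 25920 := by rw [← Nat.card_congr g.toEquiv, card43]
  have i : Function.Injective (g.toMonoidHom.comp χ) := g.injective.comp inj
  have cS : Nat.card (PS4.S2.map (g.toMonoidHom.comp χ)) = 3 ^ (Nat.card (PSp 2 F)).factorization 3 := by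
    rw [card_map_of_injective i, card_sub (· ∈ PS4.S2) fun _ => Iff.rfl, cG,
      show (25920 : ℕ).factorization 3 = 4 by decide +kernel]
    decide +kernel
  obtain ⟨c, hc⟩ := MulAction.exists_smul_eq (PSp 2 F) (Sylow.ofCard _ cS) P
  obtain ⟨η, i', r', hS⟩ : ∃ η : PS4.K2 →* PSp 2 F, Function.Injective η ∧
      (∀ y, Commute y (η (e 1)) → y ∈ η.range) ∧ ∀ k ∈ PS4.S2, Commute (η k) x := by
    let u := g.trans (MulAut.conj c)
    refine ⟨u.toMonoidHom.comp χ, u.injective.comp inj, fun y hy => ?_, fun k hk => ?_⟩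
    · obtain ⟨k, hk⟩ := r.ge (mem_cent.2 (Commute.of_map u.injective
        (show Commute (u (u.symm y)) (u (χ (e 1))) by simpa using hy)))
      exact ⟨k, by simp [hk]⟩
    · exact mem_cent.1 (hP (hc ▸ smul_mem_pointwise_smul _ (MulAut.conj c) _ ⟨k, hk, rfl⟩))
  obtain ⟨k, rfl⟩ := r' x (hS _ (BD.of (by decide +kernel))).symm
  have zc : ∀ k : PS4.K2, Commute k (e 1) := BD.of (by decide +kernel)
  have eq : η.range = centralizer {η k} := by
    have := (BD.of (by decide +kernel) : ∀ k : PS4.K2, Commute (e 5) k → Commute (e 169) k →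
      k = 1 ∨ k = e 1 ∨ k = (e 1)⁻¹) k (.of_map i' (hS _ (BD.of (by decide +kernel))))
        (.of_map i' (hS _ (BD.of (by decide +kernel))))
    rcases this with rfl | rfl | rfl
    · simp at hx
    · exact ext fun y => ⟨by rintro ⟨k, rfl⟩; exact mem_cent.2 ((zc k).map η),
        fun h => r' y (mem_cent.1 h)⟩
    · exact ext fun y => ⟨by rintro ⟨k, rfl⟩; exact mem_cent.2 ((zc k).inv_right.map η),
        fun h => r' y (by simpa using mem_cent.1 h)⟩
  have u := ((MonoidHom.ofInjective i').trans (MulEquiv.subgroupCongr eq)).trans f.symm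
  obtain ⟨j, hj⟩ := kd_of u.toMonoidHom u.injective (by
    rw [← Nat.card_congr u.toEquiv, TG.card]; decide)
  refine ⟨j, _, _, hj, ?_, fun y hy => ?_⟩
  · exact (Nat.card_congr (u.toEquiv.subtypeEquiv (p := (· ∈ centralizer {e 189})) fun _ =>
      ⟨fun h => mem_cent.2 ((mem_cent.1 h).map u),
        fun h => mem_cent.2 (Commute.of_map u.injective (mem_cent.1 h))⟩)).symm.trans
      ((card_sub (fun k => Commute k (e 189)) fun _ => mem_cent).trans (by decide +kernel))
  · obtain ⟨y, rfl⟩ := u.surjective y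
    exact k3_of u.toMonoidHom (.of_map u.injective hy)

end Cfsg.Agent.B8L
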